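import Cfsg.Agent.REC.Amal2

/-!
Partial isomorphisms between two groups, as relations.
-/

set_option autoImplicit false

namespace CL.MU

open Cfsg Subgroup

variable {M G N : Type*} [Group M] [Group G] [Group N]

structure PI (J : M → G → Prop) : Prop where
  one : J 1 1
  mul : ∀ {a b c d}, J a b → J c d → J (a * c) (b * d)
  inv : ∀ {a b}, J a b → J a⁻¹ b⁻¹
  ker : ∀ {a b}, J a b → (a = 1 ↔ b = 1)

/-- closure of a partial isomorphism under products -/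
scoped macro "pj" : tactic => `(tactic| repeat' first
  | assumption | apply PI.mul ‹_› | apply PI.inv ‹_› | exact PI.one ‹_›)

namespace PI

variable {J : M → G → Prop} (h : PI J)
include h

theorem symm : PI fun b a => J a b := ⟨h.one, h.mul, h.inv, fun e => (h.ker e).symm⟩

theorem eq_iff {a b c d} (h1 : J a b) (h2 : J c d) : a = c ↔ b = d := by
  rw [← mul_inv_eq_one, ← mul_inv_eq_one (a := b)]; exact h.ker (h.mul h1 (h.inv h2))

theorem fw {a b c d} (e : a = c) (h1 : J a b := by pj) (h2 : J c d := by pj) : b = d :=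
  (h.eq_iff h1 h2).1 e

theorem bw {a b c d} (e : b = d) (h1 : J a b := by pj) (h2 : J c d := by pj) : a = c :=
  (h.eq_iff h1 h2).2 e

theorem conj {g k a b} (h1 : J g k) (h2 : J a b) : J (g * a * g⁻¹) (k * b * k⁻¹) := by pj

theorem pow {a b} (e : J a b) (n : ℕ) : J (a ^ n) (b ^ n) := by
  induction n with
  | zero => simpa using h.one
  | succ n ih => rw [pow_succ, pow_succ]; pj

theorem comm {a b c d} (h1 : J a b) (h2 : J c d) : a * c = c * a ↔ b * d = d * b :=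
  h.eq_iff (h.mul h1 h2) (h.mul h2 h1)

def im (S : Subgroup M) : Subgroup G where
  carrier := {b | ∃ a ∈ S, J a b}
  one_mem' := ⟨1, one_mem _, h.one⟩
  mul_mem' := fun ⟨_, a, e⟩ ⟨_, b, f⟩ => ⟨_, mul_mem a b, h.mul e f⟩
  inv_mem' := fun ⟨_, a, e⟩ => ⟨_, inv_mem a, h.inv e⟩

theorem mem_im {S : Subgroup M} {a b} (e : J a b) : b ∈ h.im S ↔ a ∈ S :=
  ⟨fun ⟨_, m, f⟩ => h.bw rfl f e ▸ m, fun m => ⟨a, m, e⟩⟩

theorem isPGroup_im {p : ℕ} {S : Subgroup M} (hS : IsPGroup p S) : IsPGroup p (h.im S) := by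
  rintro ⟨b, a, m, e⟩
  obtain ⟨k, hk⟩ := hS ⟨a, m⟩
  exact ⟨k, Subtype.ext ((h.ker (h.pow e _)).1 (congrArg Subtype.val hk))⟩

theorem card_im {S : Subgroup M} (ex : ∀ a ∈ S, ∃ b, J a b) : Nat.card (h.im S) = Nat.card S := by
  choose f hf using ex
  refine (Nat.card_eq_of_bijective (fun a : S => (⟨f a a.2, a, a.2, hf a a.2⟩ : h.im S))
    ⟨fun a b e => Subtype.ext (h.bw (congrArg Subtype.val e) (hf ..) (hf ..)), ?_⟩).symm
  rintro ⟨b, a, m, e⟩
  exact ⟨⟨a, m⟩, Subtype.ext (h.fw rfl (hf ..) e)⟩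

theorem comp {K : G → N → Prop} (k : PI K) : PI fun a c => ∃ b, J a b ∧ K b c :=
  ⟨⟨1, h.one, k.one⟩, fun ⟨_, a, b⟩ ⟨_, c, d⟩ => ⟨_, h.mul a c, k.mul b d⟩,
    fun ⟨_, a, b⟩ => ⟨_, h.inv a, k.inv b⟩, fun ⟨_, a, b⟩ => (h.ker a).trans (k.ker b)⟩

theorem twist (m : M) (n : G) : PI fun a b => J (m * a * m⁻¹) (n * b * n⁻¹) :=
  ⟨by simpa using h.one, fun a b => by simpa [mul_assoc] using h.mul a b,
    fun a => by simpa [mul_assoc] using h.inv a, fun a => by simpa using h.ker a⟩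

theorem restrict (S : Subgroup M) : PI fun a b => a ∈ S ∧ J a b :=
  ⟨⟨one_mem _, h.one⟩, fun a b => ⟨mul_mem a.1 b.1, h.mul a.2 b.2⟩,
    fun a => ⟨inv_mem a.1, h.inv a.2⟩, fun a => h.ker a.2⟩

theorem extend {m : M} {n : G} (hc : ∀ {a b}, J a b → J (m * a * m⁻¹) (n * b * n⁻¹))
    (hs : J (m * m) (n * n)) (hm : ∀ b, ¬ J m b) (hn : ∀ a, ¬ J a n) :
    PI fun a b => J a b ∨ J (a * m⁻¹) (b * n⁻¹) := by
  refine ⟨Or.inl h.one, ?_, ?_, ?_⟩
  · rintro a b c d (e | e) (f | f)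
    · exact Or.inl (h.mul e f)
    · exact Or.inr (by simpa [mul_assoc] using h.mul e f)
    · exact Or.inr (by simpa [mul_assoc] using h.mul e (hc f))
    · exact Or.inl (by simpa [mul_assoc] using h.mul (h.mul e (hc f)) hs)
  · rintro a b (e | e)
    · exact Or.inl (h.inv e)
    · exact Or.inr (by simpa [mul_assoc] using h.mul (h.inv hs) (hc (h.inv e)))
  · rintro a b (e | e)
    · exact h.ker e
    · refine iff_of_false ?_ ?_ <;> rintro rfl
      · exact hm _ (by simpa using h.inv e)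
      · exact hn _ (by simpa using h.inv e)

end PI

theorem PI.inner [Finite G] (hO : Nat.card (Out G) = 1) {J : G → G → Prop} (h : PI J)
    (ex : ∀ a, ∃ b, J a b) : ∃ d, ∀ a b, J a b → b = d * a * d⁻¹ := by
  choose f hf using ex
  let φ : G →* G := MonoidHom.mk' f fun a b => h.fw rfl (hf _) (h.mul (hf _) (hf _))
  obtain ⟨d, hd⟩ : MulEquiv.ofBijective φ (Finite.injective_iff_bijective.1 fun a b e =>
      h.bw e (hf _) (hf _)) ∈ Inn G :=
    (QuotientGroup.eq_one_iff _).1 ((Nat.card_eq_one_iff_unique.1 hO).1.elim _ _)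
  exact ⟨d, fun a b e => (h.fw rfl e (hf a)).trans (DFunLike.congr_fun hd a).symm⟩

/-- two perfect double covers -/
theorem exists_PI [Finite M] [Finite G] [Finite N] (hN : Group.IsPerfect N)
    (hS : HasCyclicSchurMultiplier N 2) {H : Subgroup M} {L : Subgroup G}
    (hH : IsNonsplitDoubleCover H N) (hL : Group.IsPerfect L) (c : Nat.card (center L) = 2)
    (e : Nonempty (L ⧸ center L ≃* N)) : ∃ J : M → G → Prop, PI J ∧ (∀ a, a ∈ H ↔ ∃ b, J a b) ∧
      ∀ b, b ∈ L ↔ ∃ a, J a b := by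
  obtain ⟨σ, hσ, -⟩ := Rec.exists_cover_of_nonsplit hN hS hH
  obtain ⟨τ, hτ, -⟩ := Rec.exists_cover_of_nonsplit hN hS (C := L) ⟨c, e, fun K k => by
    have h1 : commutator L ≤ K := by
      rw [commutator_def, commutator_le]
      intro a _ b _
      obtain ⟨⟨⟨x, hx⟩, y⟩, rfl⟩ := k.2 a
      obtain ⟨⟨⟨u, hu⟩, v⟩, rfl⟩ := k.2 b
      have a := mem_center_iff.1 hx
      have b := mem_center_iff.1 hu
      have : x * y * (u * v) * (x * y)⁻¹ * (u * v)⁻¹ = y * v * (y : L)⁻¹ * (v : L)⁻¹ := by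
        rw [mul_inv_eq_iff_eq_mul, mul_inv_eq_iff_eq_mul, ← a y, ← b v]
        simp only [mul_assoc, inv_mul_cancel_left]
        rw [← mul_assoc (y : L)⁻¹, b (y : L)⁻¹]
        simp only [mul_assoc, inv_mul_cancel_left]
        rw [← a (v * u), mul_assoc]
      show x * y * (u * v) * (x * y)⁻¹ * (u * v)⁻¹ ∈ K
      rw [this]
      exact mul_mem (mul_mem (mul_mem y.2 v.2) (inv_mem y.2)) (inv_mem v.2)
    rw [hL.commutator_eq_top, top_le_iff] at h1
    have := k.disjoint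
    rw [h1, disjoint_top] at this
    simp [this] at c⟩
  obtain ⟨η, hη⟩ := hσ.exists_lift_of_perfect hN (MonoidHom.id N) hτ.central
  have b := hσ.bijective_of_over hτ η hη
  refine ⟨fun a b => ∃ m : a ∈ H, (η ⟨a, m⟩ : G) = b, ⟨⟨one_mem _, congrArg _ η.map_one⟩, ?_, ?_, ?_⟩,
    fun a => ⟨fun m => ⟨_, m, rfl⟩, fun ⟨_, m, _⟩ => m⟩, fun y => ⟨fun m => ?_, ?_⟩⟩
  · rintro _ _ _ _ ⟨m, rfl⟩ ⟨m', rfl⟩
    exact ⟨mul_mem m m', congrArg _ (η.map_mul ⟨_, m⟩ ⟨_, m'⟩)⟩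
  · rintro _ _ ⟨m, rfl⟩
    exact ⟨inv_mem m, congrArg _ (η.map_inv ⟨_, m⟩)⟩
  · rintro _ _ ⟨m, rfl⟩
    rw [OneMemClass.coe_eq_one, map_eq_one_iff _ b.1, mk_eq_one]
  · obtain ⟨x, hx⟩ := b.2 ⟨y, m⟩
    exact ⟨x, x.2, congrArg _ hx⟩
  · rintro ⟨_, m, rfl⟩
    exact (η _).2

end CL.MU
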