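import Cfsg.Agent.SPOR.MU.LatA

/-!
An extraspecial group labelled by the Leech lattice modulo two, and the elements acting on it through `Co0`.
-/

set_option autoImplicit false

namespace CL.MU

open Cfsg CL.Leech CL.MT CL.LX Spor Subgroup

variable {G : Type*} [Group G]

def AA (z : G) (R : leechLattice → G → Prop) (k : Co0) (c : G) : Prop :=
  c * z = z * c ∧ ∀ v x, R v x → R (k • v) (c * x * c⁻¹)

structure PQ (z : G) (Q : Subgroup G) (R : leechLattice → G → Prop) : Prop where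
  es : ES Q z
  card : Nat.card Q = 2 ^ 25
  R_mem : ∀ {v x}, R v x → x ∈ Q
  ex_v : ∀ x ∈ Q, ∃ v, R v x
  ex_x : ∀ v, ∃ x, R v x
  R_mul : ∀ {v w x y}, R v x → R w y → R (v + w) (x * y)
  R_cong : ∀ {v w x y}, R v x → R w y → (Cong v w ↔ y = x ∨ y = x * z)
  R_of : ∀ {v w x y}, R v x → Cong v w → (y = x ∨ y = x * z) → R w y
  sq_iff : ∀ {v x}, R v x → (x * x = 1 ↔ (32 : ℤ) ∣ sqNorm v.1)
  comm_iff : ∀ {v w x y}, R v x → R w y → (x * y = y * x ↔ Ort v w)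
  sc : ∀ c, (∀ x ∈ Q, c * x = x * c) → c = 1 ∨ c = z

theorem cong_add_self (v : leechLattice) : Cong (v + v) 0 := ⟨v, by rw [sub_zero, two_nsmul]⟩

theorem cong_add_iff {v w : leechLattice} : Cong (v + w) 0 ↔ Cong v w :=
  ⟨fun h => by simpa using h.add (cong_neg w),
    fun h => (h.add (Cong.refl w)).trans (cong_add_self w)⟩

theorem not_cong_zero {v : leechLattice} (h1 : sqNorm v.1 ≤ 64) (h0 : sqNorm v.1 ≠ 0) : ¬ Cong v 0 :=
  fun e => h0 (e.norm_eq h1 (by simp [sqNorm_zero])|>.trans (by simp [sqNorm_zero]))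

namespace PQ

variable {z : G} {Q : Subgroup G} {R : leechLattice → G → Prop} (h : PQ z Q R)
include h

theorem R_z {v x} (hx : R v x) : R v (x * z) := h.R_of hx (Cong.refl _) (Or.inr rfl)

theorem R_cg {v w x} (hx : R v x) (hc : Cong v w) : R w x := h.R_of hx hc (Or.inl rfl)

theorem cong_of {v w x} (hx : R v x) (hw : R w x) : Cong v w := (h.R_cong hx hw).2 (Or.inl rfl)

theorem cases_of {v x y} (hx : R v x) (hy : R v y) : y = x ∨ y = x * z :=
  (h.R_cong hx hy).1 (Cong.refl _)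

theorem R_zero : R 0 1 := by
  obtain ⟨x, hx⟩ := h.ex_x 0
  refine h.R_of (h.R_mul hx hx) (cong_add_self 0) ?_
  rcases h.es.sq x (h.R_mem hx) with e | e <;> simp [e, h.es.z_sq]

theorem R_inv {v x} (hx : R v x) : R v x⁻¹ := by
  refine h.R_of hx (Cong.refl _) ?_
  rcases h.es.sq x (h.R_mem hx) with e | e
  · exact Or.inl (inv_eq_of_mul_eq_one_right e)
  · exact Or.inr (inv_eq_of_mul_eq_one_right (by rw [← mul_assoc, e, h.es.z_sq]))

theorem zero_iff {v x} (hx : R v x) : Cong v 0 ↔ x = 1 ∨ x = z := by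
  simpa using (show Cong v 0 ↔ Cong 0 v from ⟨Cong.symm, Cong.symm⟩).trans (h.R_cong h.R_zero hx)

theorem ne_of_norm {v x} (hx : R v x) (h1 : sqNorm v.1 ≤ 64) (h0 : sqNorm v.1 ≠ 0) : x ≠ 1 ∧ x ≠ z :=
  not_or.1 fun e => not_cong_zero h1 h0 ((h.zero_iff hx).2 e)

theorem A_one {q} (hq : q ∈ Q) : AA z R 1 q := ⟨h.es.z_comm q hq, fun v x hx => by
  rw [one_smul]; exact h.R_of hx (Cong.refl _) (h.es.conj_cases (h.R_mem hx) hq)⟩

theorem A_center {g k c} (hk : k ∈ center Co0) (e : AA z R g c) : AA z R (k * g) c :=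
  ⟨e.1, fun v x hx => by rw [mul_smul]; exact h.R_cg (e.2 v x hx) (cong_of_mem_center hk _).symm⟩

omit h in
theorem A_mul {g k c d} (e : AA z R g c) (f : AA z R k d) : AA z R (g * k) (c * d) :=
  ⟨by rw [mul_assoc, f.1, ← mul_assoc, e.1, mul_assoc], fun v x hx => by
    simpa [mul_smul, mul_assoc] using e.2 _ _ (f.2 v x hx)⟩

theorem A_inv {g c} (e : AA z R g c) : AA z R g⁻¹ c⁻¹ := by
  have c1 : c⁻¹ * z = z * c⁻¹ := (Commute.inv_left e.1).eq
  refine ⟨c1, fun v x hx => ?_⟩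
  obtain ⟨y, hy⟩ := h.ex_x (g⁻¹ • v)
  have := e.2 _ _ hy
  rw [smul_inv_smul] at this
  refine h.R_of hy (Cong.refl _) ?_
  rcases h.cases_of this hx with rfl | rfl
  · simp [mul_assoc]
  · simp [mul_assoc, ← e.1]

theorem A_pow {g c} (e : AA z R g c) (n : ℕ) : AA z R (g ^ n) (c ^ n) := by
  induction n with
  | zero => simpa using h.A_one (one_mem _)
  | succ n ih => rw [pow_succ, pow_succ]; exact A_mul ih e

theorem A_ker [Finite G] {g c} (e : AA z R g c) : c ∈ Q ↔ g ∈ center Co0 := by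
  refine ⟨fun m => center_of_cong fun v => ?_, fun m => ?_⟩
  · obtain ⟨x, hx⟩ := h.ex_x v
    simpa using h.cong_of (e.2 v x hx) ((h.A_one m).2 v x hx)
  · obtain ⟨y, hy, k⟩ := h.es.exists_inner (c := c) fun x hx => by
      obtain ⟨v, hv⟩ := h.ex_v x hx
      exact (h.R_cong hv (e.2 v x hv)).1 (cong_of_mem_center m v).symm
    have := h.sc (y⁻¹ * c) fun x hx => by
      rw [mul_assoc, mul_inv_eq_iff_eq_mul.1 (k x hx)]; group
    refine (mul_mem_cancel_left (inv_mem hy)).1 ?_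
    rcases this with e | e <;> rw [e]
    exacts [one_mem _, h.es.z_mem]

theorem pow_eq_one [Finite G] {g c} (e : AA z R g c) {n : ℕ} (m : g ^ n ∈ center Co0) :
    c ^ (n * 4) = 1 := by
  rw [pow_mul]; exact h.es.pow_four ((h.A_ker (h.A_pow e n)).2 m)

/-- the elements acting through `Co0` -/
def PP : Subgroup G where
  carrier := {c | ∃ k, AA z R k c}
  one_mem' := ⟨1, h.A_one (one_mem _)⟩
  mul_mem' := fun ⟨_, a⟩ ⟨_, b⟩ => ⟨_, A_mul a b⟩
  inv_mem' := fun ⟨_, a⟩ => ⟨_, h.A_inv a⟩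

theorem Q_le : Q ≤ h.PP := fun _ m => ⟨1, h.A_one m⟩

theorem nrm {p x} (hp : p ∈ h.PP) (hx : x ∈ Q) : p * x * p⁻¹ ∈ Q := by
  obtain ⟨v, hv⟩ := h.ex_v x hx
  exact h.R_mem (hp.choose_spec.2 v x hv)

theorem R_comm {k c v x} (e : AA z R k c) (hx : R v x) : R (k • v + v) (c * x * c⁻¹ * x⁻¹) :=
  h.R_mul (e.2 v x hx) (h.R_inv hx)

theorem adjust {g v w x y c} (e : AA z R g c) (hx : R v x) (hy : R w y) (hc : Cong (g • v) w)
    (h0 : ¬ Cong w 0) : ∃ c, AA z R g c ∧ c * x * c⁻¹ = y := by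
  rcases (h.R_cong hy (e.2 _ _ hx)).1 hc.symm with k | k
  · exact ⟨c, e, k⟩
  · obtain ⟨n1, n2⟩ := not_or.1 fun k => h0 ((h.zero_iff hy).2 k)
    obtain ⟨q, hq, hq'⟩ := h.es.exists_conj_eq_mul (h.R_mem hy) n1 n2
    refine ⟨q⁻¹ * c, by simpa using A_mul (h.A_one (inv_mem hq)) e, ?_⟩
    calc q⁻¹ * c * x * (q⁻¹ * c)⁻¹ = q⁻¹ * (c * x * c⁻¹) * q := by group
      _ = y := by rw [k, ← hq']; group

end PQ

structure PT0 (z t : G) (Q : Subgroup G) (R : leechLattice → G → Prop) : Prop extends PQ z Q R where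
  ex_c : ∀ k, ∃ c, AA z R k c
  Rt : R leechU t
  nc : ¬ IsConj z t
  zw : ∃ x, R ww x ∧ IsConj z x

namespace PT0

variable {z t : G} {Q : Subgroup G} {R : leechLattice → G → Prop} (h : PT0 z t Q R)
include h

theorem conj_eq {g v w x y} (hx : R v x) (hy : R w y) (hc : Cong (g • v) w) (h0 : ¬ Cong w 0) :
    ∃ c, AA z R g c ∧ c * x * c⁻¹ = y :=
  h.adjust (h.ex_c g).choose_spec hx hy hc h0

theorem short {v x} (hx : R v x) (hv : sqNorm v.1 = 32) : ∃ p ∈ h.PP, p * t * p⁻¹ = x := by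
  obtain ⟨g, hg⟩ := exists_smul_U hv
  obtain ⟨c, hc, e⟩ := h.conj_eq (g := g) h.Rt hx (hg ▸ Cong.refl _) (not_cong_zero (by omega) (by omega))
  exact ⟨c, ⟨g, hc⟩, e⟩

theorem long {v x s} (hx : R v x) (hv : sqNorm v.1 = 64) (hs : R ww s) :
    ∃ p ∈ h.PP, p * s * p⁻¹ = x := by
  obtain ⟨g, hg⟩ := exists_smul_cong (sqNorm_e8 none) hv
  obtain ⟨c, hc, e⟩ := h.conj_eq hs hx hg (not_cong_zero (by omega) (by omega))
  exact ⟨c, ⟨g, hc⟩, e⟩

theorem conj_long {v x} (hx : R v x) (hv : sqNorm v.1 = 64) : IsConj z x := by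
  obtain ⟨s, hs, e⟩ := h.zw
  obtain ⟨p, -, k⟩ := h.long hx hv hs
  exact e.trans (isConj_iff.2 ⟨p, k⟩)

theorem conj_short {v x} (hx : R v x) (hv : sqNorm v.1 = 32) : IsConj t x := by
  obtain ⟨p, -, k⟩ := h.short hx hv
  exact isConj_iff.2 ⟨p, k⟩

theorem short_of {x} (hx : x ∈ Q) (e : IsConj t x) : ∃ v, R v x ∧ sqNorm v.1 = 32 := by
  obtain ⟨v, hv⟩ := h.ex_v x hx
  obtain ⟨w, c, k⟩ := exists_short' v
  have hw := h.R_cg hv c
  obtain ⟨g, rfl⟩ := isConj_iff.1 e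
  have s := (h.sq_iff hw).1 (by rw [conj_mul, (h.sq_iff h.Rt).2 (by rw [sqNorm_U])]; simp)
  rcases k with rfl | k | k | k
  · rcases (h.zero_iff hw).1 (Cong.refl _) with k | k
    · exact absurd (by simpa using k) (h.ne_of_norm h.Rt (by simp [sqNorm_U]) (by simp [sqNorm_U])).1
    · exact absurd (k ▸ e).symm h.nc
  · exact ⟨w, hw, k⟩
  · omega
  · exact absurd ((h.conj_long hw k).trans e.symm) h.nc

end PT0

end CL.MU
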